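import Groth.Agent.GaLoc87.Derived
import Groth.Agent.GaExt87.Sheaf
import Groth.Agent.ExtConst67.BaseChange
import Groth.Agent.DiagRig.Split
import Groth.Prelude.Def_CGrpSh2

/-!
# Morphisms out of a split lattice lift locally along epimorphisms of sheaves
-/

set_option autoImplicit false
set_option backward.isDefEq.respectTransparency false
set_option backward.isDefEq.respectTransparency.types false

universe u

open CategoryTheory CategoryTheory.Limits AlgebraicGeometry Opposite MonObj GrpObj MonoidalCategory CartesianMonoidalCategory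
open Groth.Agent.GaExt87 Groth.Agent.ExtConst67 Groth.Agent.DiagRig

noncomputable section

namespace Groth.Agent.LatExt68

local notation "Kf" => Scheme.fppfPrecoverage

abbrev Zr (r : ℕ) : Type u := ULift.{u} (Multiplicative (Fin r → ℤ))

def zi {r : ℕ} (v : Fin r → ℤ) : Zr.{u} r := ULift.up (Multiplicative.ofAdd v)

theorem zi_add {r : ℕ} (v v' : Fin r → ℤ) : zi.{u} (v + v') = zi v * zi v' := rfl

def vz {r : ℕ} (m : Zr.{u} r) : Fin r → ℤ := Multiplicative.toAdd m.down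

theorem exists_ulift_iso {S' : Scheme.{u}} {M : Type} [Group M] {G : Over S'} [GrpObj G] (e : G ≅ TwC.const S' M)
    (he : TwC.IsConstGrp M G e) :
    ∃ e' : G ≅ TwC.const S' (ULift.{u} M), TwC.IsConstGrp (ULift.{u} M) G e' := by
  let c : TwC.const S' M ≅ TwC.const S' (ULift.{u} M) :=
    { hom := TwC.constMap S' ULift.up
      inv := TwC.constMap S' ULift.down
      hom_inv_id := Over.OverMorphism.ext (Sigma.hom_ext _ _ fun m => by simp [TwC.constMap])
      inv_hom_id := Over.OverMorphism.ext (Sigma.hom_ext _ _ fun m => by simp [TwC.constMap]) }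
  refine ⟨e ≪≫ c, fun m n => ?_⟩
  have key : ∀ k, TwC.pt S' (ULift.{u} M) k ≫ (e ≪≫ c).inv = TwC.pt S' M k.down ≫ e.inv := fun k => by
    rw [Iso.trans_inv, ← Category.assoc]
    congr 1
    apply Over.OverMorphism.ext
    simp [TwC.pt, TwC.constMap, c]
  rw [key, key, key]
  exact he _ _

section Chart

variable {S S' : Scheme.{u}} {f : S' ⟶ S} {X : Over S} {r : ℕ} (e : Red.bc f X ≅ TwC.const S' (Zr.{u} r))
  {W : Over S} (β : W.left ⟶ S') (hβ : β ≫ f = W.hom)

def iV {V : Over S} (h : V ⟶ W) : (Over.map f).obj (Over.mk (h.left ≫ β)) ⟶ V :=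
  Over.homMk (𝟙 V.left) (by simp [hβ])

def jV {V : Over S} (h : V ⟶ W) : V ⟶ (Over.map f).obj (Over.mk (h.left ≫ β)) :=
  Over.homMk (𝟙 V.left) (by simp [hβ])

/-- the index of a point -/
def cx {V : Over S} (h : V ⟶ W) (q : V ⟶ X) : V.left → Zr.{u} r :=
  idx e (bcUn f (iV β hβ h ≫ q))

theorem isLocallyConstant_cx {V : Over S} (h : V ⟶ W) (q : V ⟶ X) : IsLocallyConstant (cx e β hβ h q) :=
  isLocallyConstant_idx e (T := Over.mk (h.left ≫ β)) _

theorem cx_comp {V V' : Over S} (k : V' ⟶ V) (h : V ⟶ W) (q : V ⟶ X) (v : V'.left) :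
    cx e β hβ (k ≫ h) (k ≫ q) v = cx e β hβ h q (k.left.base v) := by
  let k' : (Over.mk ((k ≫ h).left ≫ β) : Over S') ⟶ Over.mk (h.left ≫ β) := Over.homMk k.left (by simp)
  have e1 : bcUn f (iV β hβ (k ≫ h) ≫ k ≫ q) = k' ≫ bcUn f (iV β hβ h ≫ q) := by
    apply ((Over.mapPullbackAdj f).homEquiv _ _).symm.injective
    show bcTr f (bcUn f _) = bcTr f (k' ≫ _)
    rw [bcTr_comp, bcTr_bcUn, bcTr_bcUn, ← Category.assoc, ← Category.assoc]
    refine congrArg (· ≫ q) (Over.OverMorphism.ext ?_)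
    simp [iV, k']
  show idx e (bcUn f (iV β hβ (k ≫ h) ≫ k ≫ q)) v = _
  rw [e1]
  exact idx_comp e k' _ v

theorem cx_inj {V : Over S} (h : V ⟶ W) (q q' : V ⟶ X) (hq : ∀ v, cx e β hβ h q v = cx e β hβ h q' v) :
    q = q' := by
  have h1 := congrArg (bcTr f) (ExtConst67.ext_idx e (T := Over.mk (h.left ≫ β)) (a := bcUn f (iV β hβ h ≫ q)) (b := bcUn f (iV β hβ h ≫ q')) hq)
  rw [bcTr_bcUn, bcTr_bcUn] at h1
  apply Over.OverMorphism.ext
  have h2 := congrArg CommaMorphism.left h1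
  simpa [iV] using h2

/-- the point of constant index -/
def qc {V : Over S} (h : V ⟶ W) (m : Zr.{u} r) : V ⟶ X := jV β hβ h ≫ bcTr f (cpt e _ m)

theorem cx_qc {V : Over S} (h : V ⟶ W) (m : Zr.{u} r) (v : V.left) : cx e β hβ h (qc e β hβ h m) v = m := by
  have e0 : iV β hβ h ≫ jV β hβ h = 𝟙 _ := Over.OverMorphism.ext (Category.id_comp (𝟙 V.left))
  have e1 : iV β hβ h ≫ qc e β hβ h m = bcTr f (cpt e (Over.mk (h.left ≫ β)) m) := by
    rw [qc, ← Category.assoc, e0, Category.id_comp]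
  rw [cx, e1, bcUn_bcTr]
  exact idx_cpt e (T := Over.mk (h.left ≫ β)) m v

theorem comp_qc {V V' : Over S} (k : V' ⟶ V) (h : V ⟶ W) (m : Zr.{u} r) :
    k ≫ qc e β hβ h m = qc e β hβ (k ≫ h) m :=
  cx_inj e β hβ (k ≫ h) _ _ fun v => by rw [cx_comp, cx_qc, cx_qc]

variable [GrpObj X] (he : TwC.IsConstGrp (Zr.{u} r) (Red.bc f X) e)

include he in
theorem cx_mul {V : Over S} (h : V ⟶ W) (q q' : V ⟶ X) (v : V.left) :
    cx e β hβ h (q * q') v = cx e β hβ h q v * cx e β hβ h q' v := by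
  show idx e (bcUn f (iV β hβ h ≫ (q * q'))) v = _
  rw [MonObj.comp_mul, bcUn_mul]
  exact idx_mul (eG := e) he (T := Over.mk (h.left ≫ β)) _ _ v

include he in
theorem qc_mul {V : Over S} (h : V ⟶ W) (m n : Zr.{u} r) :
    qc e β hβ h (m * n) = qc e β hβ h m * qc e β hβ h n :=
  cx_inj e β hβ h _ _ fun v => by rw [cx_mul e β hβ he, cx_qc, cx_qc, cx_qc]

variable {I Q : BigSite.Ab Kf S} (π : I ⟶ Q)

/-- the pieces on which an index is constant -/
theorem exists_cover {V : Over S} {κ : Type u} (c : V.left → κ) (hc : IsLocallyConstant c) :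
    ∃ (U : κ → Over S) (j : ∀ m, U m ⟶ V),
      Presieve.ofArrows (fun m => (U m).left) (fun m => (j m).left) ∈ (Kf).coverings V.left ∧
      (∀ m (v : (U m).left), c ((j m).left.base v) = m) ∧
      ∀ m {V' : Over S} (k : V' ⟶ V), (∀ v, c (k.left.base v) = m) → ∃ k' : V' ⟶ U m, k' ≫ j m = k := by
  let O : κ → V.left.Opens := fun m => ⟨c ⁻¹' {m}, hc {m}⟩
  refine ⟨fun m => Over.mk ((O m).ι ≫ V.hom), fun m => Over.homMk (O m).ι rfl, ?_, fun m v => v.2, ?_⟩
  · change _ ∈ Scheme.precoverage _ _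
    rw [Scheme.ofArrows_mem_precoverage_iff]
    exact ⟨fun v => ⟨c v, ⟨v, rfl⟩, rfl⟩, fun m => ⟨inferInstanceAs (Flat (O m).ι),
      inferInstanceAs (LocallyOfFinitePresentation (O m).ι)⟩⟩
  · intro m V' k hk
    have hr : Set.range k.left.base ⊆ Set.range (O m).ι.base := by
      rw [Scheme.Opens.range_ι]
      rintro _ ⟨v, rfl⟩
      exact hk v
    refine ⟨Over.homMk (IsOpenImmersion.lift (O m).ι k.left hr) ?_, Over.OverMorphism.ext ?_⟩
    · show IsOpenImmersion.lift (O m).ι k.left hr ≫ (O m).ι ≫ V.hom = _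
      rw [IsOpenImmersion.lift_fac_assoc, Over.w k]
    · exact IsOpenImmersion.lift_fac _ _ _

/-- sections glued along a locally constant index -/
theorem exists_glue_idx {κ : Type u} {V : Over S} (h : V ⟶ W) (c : V.left → κ) (hc : IsLocallyConstant c)
    (y : κ → BigSite.sect Kf I W) :
    ∃ t, ∀ {V' : Over S} (k : V' ⟶ V) (m : κ), (∀ v, c (k.left.base v) = m) → rr I k t = rr I (k ≫ h) (y m) := by
  obtain ⟨U, j, hcov, hU, hfac⟩ := exists_cover c hc
  obtain ⟨t, ht⟩ := exists_glue I U j hcov (fun m => rr I (j m ≫ h) (y m))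
    (fun m n Z gm gn hg => by
      have hz : ∀ z : Z.left, m = n := fun z => by
        rw [← hU m (gm.left.base z), ← hU n (gn.left.base z)]
        exact congrArg (fun g : Z ⟶ V => c (g.left.base z)) hg
      by_cases hne : IsEmpty Z.left
      · exact (subsingleton_of_isEmpty Scheme.zariskiPrecoverage_le_fppfPrecoverage I Z).elim _ _
      · obtain ⟨z⟩ := not_isEmpty_iff.1 hne
        obtain rfl := hz z
        rw [← rr_comp, ← rr_comp, ← Category.assoc, hg, Category.assoc])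
  refine ⟨t, fun {V'} k m hk => ?_⟩
  obtain ⟨k', rfl⟩ := hfac m k hk
  rw [rr_comp, ht, ← rr_comp, Category.assoc]

include he in
theorem exists_ext (Φ : ∀ {V : Over S}, (V ⟶ W) → (V ⟶ X) → BigSite.sect Kf Q V)
    (hn : ∀ {V V' : Over S} (k : V' ⟶ V) (h : V ⟶ W) (q : V ⟶ X), rr Q k (Φ h q) = Φ (k ≫ h) (k ≫ q))
    (ha : ∀ {V : Over S} (h : V ⟶ W) (q q' : V ⟶ X), Φ h (q * q') = Φ h q + Φ h q')
    (ℓ : Fin r → BigSite.sect Kf I W)
    (hℓ : ∀ i, sap π W (ℓ i) = Φ (𝟙 W) (qc e β hβ (𝟙 W) (zi (Pi.single i 1)))) :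
    ∃ Ψ : ∀ {V : Over S}, (V ⟶ W) → (V ⟶ X) → BigSite.sect Kf I V,
      (∀ {V V' : Over S} (k : V' ⟶ V) (h : V ⟶ W) (q : V ⟶ X), rr I k (Ψ h q) = Ψ (k ≫ h) (k ≫ q)) ∧
      (∀ {V : Over S} (h : V ⟶ W) (q q' : V ⟶ X), Ψ h (q * q') = Ψ h q + Ψ h q') ∧
      ∀ {V : Over S} (h : V ⟶ W) (q : V ⟶ X), sap π V (Ψ h q) = Φ h q := by
  classical
  let L : (Fin r → ℤ) →+ BigSite.sect Kf I W := AddMonoidHom.mk' (fun v => ∑ i, v i • ℓ i) fun v v' => by
    simp only [Pi.add_apply, add_smul, Finset.sum_add_distrib]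
  let F : (Fin r → ℤ) →+ BigSite.sect Kf Q W := AddMonoidHom.mk' (fun v => Φ (𝟙 W) (qc e β hβ (𝟙 W) (zi v)))
    fun v v' => by
      show Φ (𝟙 W) (qc e β hβ (𝟙 W) (zi (v + v'))) = _
      rw [zi_add, qc_mul e β hβ he, ha]
  have hLF : (sap π W).comp L = F := by
    refine AddMonoidHom.functions_ext' _ _ _ fun i => AddMonoidHom.ext_int ?_
    show sap π W (L (Pi.single i 1)) = F (Pi.single i 1)
    refine Eq.trans (congrArg _ ?_) (hℓ i)
    show ∑ j, (Pi.single i (1 : ℤ) : Fin r → ℤ) j • ℓ j = _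
    rw [Finset.sum_eq_single i (fun j _ hj => by rw [Pi.single_eq_of_ne hj, zero_smul]) (by simp),
      Pi.single_eq_same, one_smul]
  have hL : ∀ m : Zr.{u} r, sap π W (L (vz m)) = Φ (𝟙 W) (qc e β hβ (𝟙 W) m) := fun m => by
    exact DFunLike.congr_fun hLF (vz m)
  let Spec' : ∀ {V : Over S}, (V ⟶ W) → (V ⟶ X) → BigSite.sect Kf I V → Prop := fun {V} h q t =>
    ∀ {V' : Over S} (k : V' ⟶ V) (m : Zr.{u} r), (∀ v, cx e β hβ h q (k.left.base v) = m) →
      rr I k t = rr I (k ≫ h) (L (vz m))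
  have hex : ∀ {V : Over S} (h : V ⟶ W) (q : V ⟶ X), ∃ t, Spec' h q t := fun {V} h q =>
    exists_glue_idx h (cx e β hβ h q) (isLocallyConstant_cx e β hβ h q) (fun m => L (vz m))
  choose Ψ hΨ using @hex
  have huniq : ∀ {V : Over S} (h : V ⟶ W) (q : V ⟶ X) (t : BigSite.sect Kf I V), Spec' h q t → t = Ψ h q := by
    intro V h q t ht
    obtain ⟨U, j, hcov, hU, -⟩ := exists_cover (cx e β hβ h q) (isLocallyConstant_cx e β hβ h q)
    exact eq_of_cover I U j hcov fun m => by rw [ht _ m (hU m), hΨ h q _ m (hU m)]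
  refine ⟨@Ψ, fun {V V'} k h q => huniq _ _ _ fun {V''} k' m hk => ?_, fun {V} h q q' => ?_, fun {V} h q => ?_⟩
  · rw [← rr_comp, hΨ h q (k' ≫ k) m (fun v => by
      refine Eq.trans ?_ (hk v)
      rw [cx_comp]
      rfl), Category.assoc]
  · obtain ⟨U, j, hcov, hU, -⟩ := exists_cover (fun v => (cx e β hβ h q v, cx e β hβ h q' v))
      ((isLocallyConstant_cx e β hβ h q).prodMk (isLocallyConstant_cx e β hβ h q'))
    refine eq_of_cover I U j hcov fun p => ?_
    rw [map_add, hΨ h q _ p.1 (fun v => congrArg Prod.fst (hU p v)),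
      hΨ h q' _ p.2 (fun v => congrArg Prod.snd (hU p v)),
      hΨ h (q * q') _ (p.1 * p.2) (fun v => by
        rw [cx_mul e β hβ he]
        exact congrArg₂ (· * ·) (congrArg Prod.fst (hU p v)) (congrArg Prod.snd (hU p v))),
      ← map_add, ← map_add]
    rfl
  · obtain ⟨U, j, hcov, hU, -⟩ := exists_cover (cx e β hβ h q) (isLocallyConstant_cx e β hβ h q)
    refine eq_of_cover Q U j hcov fun m => ?_
    rw [← sap_rr, hΨ h q _ m (hU m), sap_rr, hL, hn, hn, Category.comp_id, comp_qc]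
    exact congrArg _ (cx_inj e β hβ _ _ _ fun v => by rw [cx_qc, Category.comp_id, cx_comp, hU m v])

end Chart

theorem exists_etale_chart {S : Scheme.{u}} {X : Over S} [GrpObj X]
    (hX : TwC.Locally S TwC.Topology.etale (fun S' f =>
      ∃ (r : ℕ) (e : Red.bc f X ≅ TwC.const S' (Multiplicative (Fin r → ℤ))),
        TwC.IsConstGrp (Multiplicative (Fin r → ℤ)) (Red.bc f X) e)) (T : Over S) (x : T.left) :
    ∃ (S' : Scheme.{u}) (f : S' ⟶ S) (T₁ : Over S) (g : T₁ ⟶ T) (β : T₁.left ⟶ S') (r : ℕ)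
      (e : Red.bc f X ≅ TwC.const S' (Zr.{u} r)),
      β ≫ f = T₁.hom ∧ TwC.IsConstGrp (Zr.{u} r) (Red.bc f X) e ∧
        Flat g.left ∧ LocallyOfFinitePresentation g.left ∧ x ∈ Set.range g.left.base := by
  obtain ⟨S', f, hf, ⟨s', hs'⟩, r, e, he⟩ := hX (T.hom.base x)
  obtain ⟨e', he'⟩ := exists_ulift_iso e he
  obtain ⟨z, hz, -⟩ := Scheme.Pullback.exists_preimage_pullback (f := T.hom) (g := f) x s' hs'.symm
  exact ⟨S', f, Over.mk (pullback.snd T.hom f ≫ f), Over.homMk (pullback.fst T.hom f) pullback.condition,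
    pullback.snd T.hom f, r, e', rfl, he', inferInstanceAs (Flat (pullback.fst T.hom f)),
    inferInstanceAs (LocallyOfFinitePresentation (pullback.fst T.hom f)), ⟨z, hz⟩⟩

theorem isZero_extSh_one_lattice {S : Scheme.{u}} (X P : Over S)
    [GrpObj X] [IsCommMonObj X]
    (hX : TwC.Locally S TwC.Topology.etale (fun S' f =>
      ∃ (r : ℕ) (e : Red.bc f X ≅ TwC.const S' (Multiplicative (Fin r → ℤ))),
        TwC.IsConstGrp (Multiplicative (Fin r → ℤ)) (Red.bc f X) e))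
    [GrpObj P] [IsCommMonObj P] :
    IsZero ((HomSh.extSh (QuotSh.J Kf S) (CGrpSh.pts Kf X) 1).obj (CGrpSh.pts Kf P)) := by
  classical
  let em := Injective.ι (CGrpSh.pts Kf P)
  let π := cokernel.π em
  have hS : (ShortComplex.mk em π (cokernel.condition em)).ShortExact := { exact := ShortComplex.exact_cokernel _ }
  refine GaLoc87.isZero_extSh_one (QuotSh.J Kf S) (CGrpSh.pts Kf X) hS fun T φ => ?_
  have hsurj : Sheaf.IsLocallySurjective π := (Sheaf.isLocallySurjective_iff_epi' _ _).2 inferInstance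
  let pX : ∀ {V : Over S}, (V ⟶ X) → BigSite.sect Kf (CGrpSh.pts Kf X) V := fun q => ULift.up (Additive.ofMul q)
  let Φ : ∀ {V : Over S}, (V ⟶ T) → (V ⟶ X) → BigSite.sect Kf (cokernel em) V := fun {V} h q =>
    φ.hom.app (op (Over.mk h)) (pX q)
  have hΦn : ∀ {V V' : Over S} (k : V' ⟶ V) (h : V ⟶ T) (q : V ⟶ X),
      rr (cokernel em) k (Φ h q) = Φ (k ≫ h) (k ≫ q) := fun k h q =>
    (NatTrans.naturality_apply φ.hom (Over.homMk k : Over.mk (k ≫ h) ⟶ Over.mk h).op (pX q)).symm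
  have hΦa : ∀ {V : Over S} (h : V ⟶ T) (q q' : V ⟶ X), Φ h (q * q') = Φ h q + Φ h q' := fun h q q' => by
    exact map_add (φ.hom.app (op (Over.mk h))).hom (pX q) (pX q')
  choose S' f T₁ g₁ β r e hβ he hfl hfp hmem using exists_etale_chart hX T
  let Sx : ∀ x, Sieve (T₁ x) := fun x => Finset.univ.inf fun i : Fin (r x) =>
    Presheaf.imageSieve π.hom (Φ (g₁ x) (qc (e x) (β x) (hβ x) (𝟙 _) (zi (Pi.single i 1))))
  have hSx : ∀ x, Sx x ∈ QuotSh.J Kf S (T₁ x) := fun x =>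
    Finset.inf_induction (GrothendieckTopology.top_mem _ _)
      (fun _ ha _ hb => (QuotSh.J Kf S).intersection_covering ha hb)
      (fun i _ => Presheaf.imageSieve_mem (QuotSh.J Kf S) π.hom _)
  let R : Sieve T :=
    { arrows := fun W g => ∃ x, ∃ k : W ⟶ T₁ x, Sx x k ∧ k ≫ g₁ x = g
      downward_closed := by
        rintro W W' g ⟨x, k, hk, rfl⟩ a
        exact ⟨x, a ≫ k, (Sx x).downward_closed hk a, Category.assoc _ _ _⟩ }
  refine ⟨R, ?_, ?_⟩
  · have h0 : Sieve.ofArrows T₁ g₁ ∈ QuotSh.J Kf S T := by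
      rw [GrothendieckTopology.mem_over_iff]
      change Sieve.overEquiv T (Sieve.ofArrows T₁ g₁) ∈ Precoverage.toGrothendieck _ T.left
      rw [Sieve.overEquiv_ofArrows]
      refine Precoverage.generate_mem_toGrothendieck ?_
      change _ ∈ Scheme.precoverage _ _
      rw [Scheme.ofArrows_mem_precoverage_iff]
      exact ⟨fun x => ⟨x, hmem x⟩, fun x => ⟨hfl x, hfp x⟩⟩
    refine (QuotSh.J Kf S).transitive h0 R ?_
    rintro W _ ⟨V, a, b, ⟨x⟩, rfl⟩
    exact (QuotSh.J Kf S).superset_covering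
      (fun W' k hk => ⟨x, k ≫ a, hk, by simp only [Category.assoc]⟩)
      ((QuotSh.J Kf S).pullback_stable a (hSx x))
  · rintro W g ⟨x, k, hk, rfl⟩
    have hl : ∀ i : Fin (r x), ∃ t, sap π W t =
        rr (cokernel em) k (Φ (g₁ x) (qc (e x) (β x) (hβ x) (𝟙 _) (zi (Pi.single i 1)))) := fun i =>
      (Finset.inf_le (f := fun i : Fin (r x) => Presheaf.imageSieve π.hom
        (Φ (g₁ x) (qc (e x) (β x) (hβ x) (𝟙 _) (zi (Pi.single i 1))))) (Finset.mem_univ i)) k hk
    choose ℓ hℓ using hl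
    obtain ⟨Ψ, hn, ha, hπ⟩ := exists_ext (e x) (k.left ≫ β x) (by rw [Category.assoc, hβ x]; exact Over.w k)
      (he x) π (fun h q => Φ (h ≫ k ≫ g₁ x) q)
      (fun k' h q => by rw [hΦn, Category.assoc]) (fun h q q' => hΦa _ q q') ℓ (fun i => by
        rw [hℓ, hΦn, Category.id_comp, comp_qc]
        congr 1)
    let ψ : (CGrpSh.pts Kf X).over W ⟶ (Injective.under (CGrpSh.pts Kf P)).over W := ⟨{
      app := fun Y => AddCommGrpCat.ofHom (AddMonoidHom.mk'
        (fun z => Ψ Y.unop.hom (show Y.unop.left ⟶ X from Additive.toMul (ULift.down z)))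
        (fun z z' => ha _ _ _))
      naturality := fun Y Y' k => AddCommGrpCat.ext fun z => by
        refine (Eq.trans ?_ (hn k.unop.left Y.unop.hom _).symm)
        show Ψ Y'.unop.hom _ = Ψ (k.unop.left ≫ Y.unop.hom) _
        rw [Over.w k.unop]
        rfl }⟩
    refine ⟨ψ, Sheaf.hom_ext (NatTrans.ext (funext fun Y => AddCommGrpCat.ext fun z => ?_))⟩
    show sap π _ (Ψ Y.unop.hom _) = φ.hom.app (op (Over.mk (Y.unop.hom ≫ k ≫ g₁ x))) z
    rw [hπ]
    rfl

end Groth.Agent.LatExt68
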